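import Groth.Agent.H98.SegCanon.SegMPair
import Groth.Agent.H81.Seg.TopSegre
import Groth.Agent.H81.Seg.SelfRes
import Groth.Agent.H93.CanonDim
import Groth.Agent.H81.CanonPieces

set_option autoImplicit false
set_option linter.unusedSectionVars false
set_option linter.unusedVariables false
set_option linter.style.haveILetI false
universe u

/-!
# The canonical module of a Segre product: `K_T = K_R # K_S`
-/

namespace Groth.Agent.H98.SegCanon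

open scoped TensorProduct
open DirectSum Groth.Agent.H98.GrStar Groth.Agent.H98.Canon Groth.Agent.H98.Ver
open Groth.Agent.H81.Seg

section Wrapper

variable {R : Type u} [CommRing R] [IsNoetherianRing R] (𝒜 : ℤ → AddSubgroup R) [GradedRing 𝒜]
  (hpos : ∀ n : ℤ, n < 0 → 𝒜 n = ⊥) (h0 : IsField (GrLC.deg0 𝒜))
  {m : HomogeneousIdeal 𝒜} (hm : GrLC.IsStarLocal 𝒜 m)
  (hmsp : m.toIdeal = Ideal.span (⋃ n ∈ Set.Ioi (0 : ℤ), (𝒜 n : Set R)))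
variable {E' : Type u} [AddCommGroup E'] [Module R E'] (𝓔 : ℤ → AddSubgroup E')
  [DirectSum.Decomposition 𝓔] [SetLike.GradedSMul 𝒜 𝓔]
  (e : (R ⧸ m.toIdeal) →ₗ[R] E') (he : GrLC.IsStarInjHull 𝒜 (GrLC.quotGr 𝒜 m) 𝓔 e)
variable {C : Type u} [AddCommGroup C] [Module R C] (𝒞 : ℤ → AddSubgroup C)
  [DirectSum.Decomposition 𝒞] [SetLike.GradedSMul 𝒜 𝒞]
variable {H : Type u} [AddCommGroup H] [Module R H] (𝓗 : ℤ → AddSubgroup H)

include hpos h0 hm hmsp he in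
/-- `exists_canon_of_mpair` with the grading data of `H` given as plain hypotheses -/
theorem exists_canon_of_mpair' [Module.Finite R C] (hint : DirectSum.IsInternal 𝓗)
    (hsm : ∀ (d j : ℤ) (r : R) (z : H), r ∈ 𝒜 d → z ∈ 𝓗 j → r • z ∈ 𝓗 (d + j))
    (P : H →+ C →+ R) (hP : MPair 𝒜 𝓗 𝒞 P) :
    ∃ Φ : (C →ₗ[R] E') ≃ₗ[R] H,
      GrLC.IsGrHom (fun d => (GrLC.homDeg 𝒜 𝒞 𝓔 d).toAddSubgroup) 𝓗 Φ.toLinearMap := by
  classical
  letI : DirectSum.Decomposition 𝓗 := hint.chooseDecomposition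
  haveI : SetLike.GradedSMul 𝒜 𝓗 := ⟨fun {d j r z} hr hz => by
    rw [vadd_eq_add]
    exact hsm d j r z hr hz⟩
  exact exists_canon_of_mpair 𝒜 hpos h0 hm hmsp 𝓔 e he 𝒞 𝓗 P hP
    (fun j => Groth.Agent.H81.CanonPieces.finite_comp 𝒜 hpos h0 𝒞 j)

end Wrapper

section ToMPair

variable {k : Type u} [Field k] {R : Type u} [CommRing R] [Nontrivial R] [Algebra k R]
  (𝒜 : ℤ → Submodule k R) [GradedAlgebra 𝒜] (hpos : ∀ n : ℤ, n < 0 → 𝒜 n = ⊥)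
  (h0 : 𝒜 0 = Submodule.span k {(1 : R)}) [Algebra.FiniteType k R]
  (m : HomogeneousIdeal 𝒜)
  (hmsp : m.toIdeal = Ideal.span (⋃ n ∈ Set.Ioi (0 : ℤ), (𝒜 n : Set R)))
variable {E' : Type u} [AddCommGroup E'] [Module R E'] (𝓔 : ℤ → AddSubgroup E')
  [DirectSum.Decomposition 𝓔] [SetLike.GradedSMul 𝒜 𝓔]
  (e : (R ⧸ m.toIdeal) →ₗ[R] E') (he : GrLC.IsStarInjHull 𝒜 (GrLC.quotGr 𝒜 m) 𝓔 e)
variable {C : Type u} [AddCommGroup C] [Module R C] (𝒞 : ℤ → AddSubgroup C)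
  [DirectSum.Decomposition 𝒞] [SetLike.GradedSMul 𝒜 𝒞]

/-- the decomposition of graded local cohomology of the ring -/
@[reducible] noncomputable def decH (n : ℕ) (I : GrLC.StarInjRes 𝒜 𝒜) :
    DirectSum.Decomposition ((selfRes 𝒜 I).Hgr m n) :=
  (Hgr_isInternal 𝒜 (selfGr 𝒜) (selfRes 𝒜 I) m n).chooseDecomposition

include hpos h0 hmsp he in
/-- a *canonical module of a ring graded by `k`-subspaces has a graded Matlis pairing with the top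
local cohomology -/
theorem exists_mpair_sub (n : ℕ) (I : GrLC.StarInjRes 𝒜 𝒜)
    (hC : GrLC.IsStarCanonical 𝒜 𝒞 𝓔 m n I) :
    ∃ P : (selfRes 𝒜 I).H m n →+ C →+ R, MPair (selfGr 𝒜) ((selfRes 𝒜 I).Hgr m n) 𝒞 P := by
  classical
  haveI : IsNoetherianRing R := Algebra.FiniteType.isNoetherianRing k R
  have hpos' := Groth.Agent.H85.SegreOneCM.selfGr_neg 𝒜 hpos
  have h0' := Groth.Agent.H85.SegreOneCM.isField_deg0_selfGr 𝒜 h0
  haveI : SetLike.GradedSMul (selfGr 𝒜) 𝓔 := gradedSMul_toSelf 𝒜 𝓔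
  haveI : SetLike.GradedSMul (selfGr 𝒜) 𝒞 := gradedSMul_toSelf 𝒜 𝒞
  have hm' := Groth.Agent.H93.CanonDim.isStarLocal_toSelf_of_span 𝒜 hpos h0 m hmsp
  have he' := isStarInjHull_toSelf 𝒜 m 𝓔 e he
  obtain ⟨hCfin, Φ, hΦ⟩ := isStarCanonical_toSelf 𝒜 m 𝓔 𝒞 n I hC
  haveI := hCfin
  letI : DirectSum.Decomposition ((resToSelf 𝒜 I).Hgr (toSelfIdeal 𝒜 m) n) := decH 𝒜 m n I
  exact Groth.Agent.H98.Ver.exists_mpair (selfGr 𝒜) hpos' h0' hm' hmsp 𝓔 e he' 𝒞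
    ((resToSelf 𝒜 I).Hgr (toSelfIdeal 𝒜 m) n) Φ hΦ

include hpos h0 hmsp he in
/-- conversely, a finite graded module with a graded Matlis pairing with the top local cohomology
is a *canonical module -/
theorem isStarCanonical_of_mpair_sub (n : ℕ) (I : GrLC.StarInjRes 𝒜 𝒜) [Module.Finite R C]
    (P : (selfRes 𝒜 I).H m n →+ C →+ R)
    (hP : MPair (selfGr 𝒜) ((selfRes 𝒜 I).Hgr m n) 𝒞 P) :
    GrLC.IsStarCanonical 𝒜 𝒞 𝓔 m n I := by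
  classical
  haveI : IsNoetherianRing R := Algebra.FiniteType.isNoetherianRing k R
  have hpos' := Groth.Agent.H85.SegreOneCM.selfGr_neg 𝒜 hpos
  have h0' := Groth.Agent.H85.SegreOneCM.isField_deg0_selfGr 𝒜 h0
  haveI : SetLike.GradedSMul (selfGr 𝒜) 𝓔 := gradedSMul_toSelf 𝒜 𝓔
  haveI : SetLike.GradedSMul (selfGr 𝒜) 𝒞 := gradedSMul_toSelf 𝒜 𝒞
  have hm' := Groth.Agent.H93.CanonDim.isStarLocal_toSelf_of_span 𝒜 hpos h0 m hmsp
  have he' := isStarInjHull_toSelf 𝒜 m 𝓔 e he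
  obtain ⟨Φ, hΦ⟩ := exists_canon_of_mpair' (selfGr 𝒜) hpos' h0' hm' hmsp 𝓔 e he' 𝒞
    ((resToSelf 𝒜 I).Hgr (toSelfIdeal 𝒜 m) n)
    (Hgr_isInternal (selfGr 𝒜) (selfGr 𝒜) (resToSelf 𝒜 I) (toSelfIdeal 𝒜 m) n)
    (fun d j r z hr hz =>
      Groth.Agent.H98.GrStar.smul_mem_Hgr (resToSelf 𝒜 I) (toSelfIdeal 𝒜 m) hr n z hz) P hP
  exact ⟨inferInstance, Φ, fun d h hh => hΦ d h hh⟩

include hpos h0 hmsp in
/-- **Grothendieck vanishing** for a ring graded by `k`-subspaces -/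
theorem subsingleton_H_of_dim_lt (r : ℕ) (hr : ringKrullDim R = r) (I : GrLC.StarInjRes 𝒜 𝒜)
    (i : ℕ) (hi : r < i) : Subsingleton ((selfRes 𝒜 I).H m i) := by
  haveI : IsNoetherianRing R := Algebra.FiniteType.isNoetherianRing k R
  have hpos' := Groth.Agent.H85.SegreOneCM.selfGr_neg 𝒜 hpos
  have hm' := Groth.Agent.H93.CanonDim.isStarLocal_toSelf_of_span 𝒜 hpos h0 m hmsp
  haveI hmax : (toSelfIdeal 𝒜 m).toIdeal.IsMaximal :=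
    Groth.Agent.H98.GrHt.isMaximal_of_isStarLocal (selfGr 𝒜) hpos' hm'
  haveI : (toSelfIdeal 𝒜 m).toIdeal.IsPrime := hmax.isPrime
  have hht : (toSelfIdeal 𝒜 m).toIdeal.height = r := by
    have h1 := Groth.Agent.H98.GrHt.height_eq_ringKrullDim_of_isStarLocal (selfGr 𝒜) hpos' hm'
    rw [hr] at h1
    exact_mod_cast h1
  have hsub : Subsingleton ((resToSelf 𝒜 I).H (toSelfIdeal 𝒜 m) i) :=
    H_subsingleton_of_height_lt (selfGr 𝒜) hm' (resToSelf 𝒜 I) r hht i hi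
  exact hsub

end ToMPair

section Segre

variable (k : Type u) [Field k] (R : Type u) [CommRing R] [Algebra k R]
  (𝒜 : ℤ → Submodule k R) [GradedAlgebra 𝒜] (hposR : ∀ n : ℤ, n < 0 → 𝒜 n = ⊥)
  (h0R : 𝒜 0 = Submodule.span k {(1 : R)}) [Algebra.FiniteType k R]
  (S : Type u) [CommRing S] [Algebra k S] (ℬ : ℤ → Submodule k S) [GradedAlgebra ℬ]
  (hposS : ∀ n : ℤ, n < 0 → ℬ n = ⊥) (h0S : ℬ 0 = Submodule.span k {(1 : S)})
  [Algebra.FiniteType k S]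
  (T : Type u) [CommRing T] [Algebra k T] (𝒯 : ℤ → Submodule k T) [GradedAlgebra 𝒯]
  (ψ : T →ₐ[k] R ⊗[k] S) (hT : GrSeg.IsSegreRing 𝒜 ℬ 𝒯 ψ)
  (mR : HomogeneousIdeal 𝒜)
  (hmR : mR.toIdeal = Ideal.span (⋃ n ∈ Set.Ioi (0 : ℤ), (𝒜 n : Set R)))
  (I : GrLC.StarInjRes 𝒜 𝒜)
  (mS : HomogeneousIdeal ℬ)
  (hmS : mS.toIdeal = Ideal.span (⋃ n ∈ Set.Ioi (0 : ℤ), (ℬ n : Set S)))
  (J : GrLC.StarInjRes ℬ ℬ)
  (mT : HomogeneousIdeal 𝒯)
  (hmT : mT.toIdeal = Ideal.span (⋃ n ∈ Set.Ioi (0 : ℤ), (𝒯 n : Set T)))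
  (IT : GrLC.StarInjRes 𝒯 𝒯)
  (r s : ℕ) (hr : ringKrullDim R = r) (hs : ringKrullDim S = s) (h2r : 2 ≤ r) (h2s : 2 ≤ s)
  (ER : Type u) [AddCommGroup ER] [Module R ER] (𝓔R : ℤ → AddSubgroup ER)
  [DirectSum.Decomposition 𝓔R] [SetLike.GradedSMul 𝒜 𝓔R]
  (eR : (R ⧸ mR.toIdeal) →ₗ[R] ER) (heR : GrLC.IsStarInjHull 𝒜 (GrLC.quotGr 𝒜 mR) 𝓔R eR)
  (CR : Type u) [AddCommGroup CR] [Module R CR] [Module k CR] [IsScalarTower k R CR]
  (𝒞R : ℤ → AddSubgroup CR) [DirectSum.Decomposition 𝒞R] [SetLike.GradedSMul 𝒜 𝒞R]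
  (hCR : GrLC.IsStarCanonical 𝒜 𝒞R 𝓔R mR r I)
  (ES : Type u) [AddCommGroup ES] [Module S ES] (𝓔S : ℤ → AddSubgroup ES)
  [DirectSum.Decomposition 𝓔S] [SetLike.GradedSMul ℬ 𝓔S]
  (eS : (S ⧸ mS.toIdeal) →ₗ[S] ES) (heS : GrLC.IsStarInjHull ℬ (GrLC.quotGr ℬ mS) 𝓔S eS)
  (CS : Type u) [AddCommGroup CS] [Module S CS] [Module k CS] [IsScalarTower k S CS]
  (𝒞S : ℤ → AddSubgroup CS) [DirectSum.Decomposition 𝒞S] [SetLike.GradedSMul ℬ 𝒞S]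
  (hCS : GrLC.IsStarCanonical ℬ 𝒞S 𝓔S mS s J)
  (ET : Type u) [AddCommGroup ET] [Module T ET] (𝓔T : ℤ → AddSubgroup ET)
  [DirectSum.Decomposition 𝓔T] [SetLike.GradedSMul 𝒯 𝓔T]
  (eT : (T ⧸ mT.toIdeal) →ₗ[T] ET) (heT : GrLC.IsStarInjHull 𝒯 (GrLC.quotGr 𝒯 mT) 𝓔T eT)
  (P : Type u) [AddCommGroup P] [Module T P] [Module k P] [IsScalarTower k T P]
  (𝒬 : ℤ → AddSubgroup P) [DirectSum.Decomposition 𝒬] [SetLike.GradedSMul 𝒯 𝒬]
  (φ : P →ₗ[k] CR ⊗[k] CS) (hP : GrSeg.IsSegreMod ψ 𝒞R 𝒞S 𝒬 φ)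

include hposR h0R hposS h0S hT hmR hmS hmT hr hs h2r h2s heR hCR heS hCS heT hP in
/-- **`K_T = K_R # K_S`**: the Segre product of *canonical modules is a *canonical module of the
Segre product -/
theorem isStarCanonical_segre : GrLC.IsStarCanonical 𝒯 𝒬 𝓔T mT (r + s - 1) IT := by
  classical
  haveI : Nontrivial R := by
    by_contra hn
    rw [not_nontrivial_iff_subsingleton] at hn
    have h1 : ringKrullDim R = ⊥ := ringKrullDim_eq_bot_of_subsingleton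
    rw [hr] at h1
    exact WithBot.coe_ne_bot h1
  haveI : Nontrivial S := by
    by_contra hn
    rw [not_nontrivial_iff_subsingleton] at hn
    have h1 : ringKrullDim S = ⊥ := ringKrullDim_eq_bot_of_subsingleton
    rw [hs] at h1
    exact WithBot.coe_ne_bot h1
  haveI : Nontrivial T := by
    refine ⟨⟨0, 1, fun h => ?_⟩⟩
    have h1 : ψ 0 = ψ 1 := congrArg ψ h
    rw [map_zero, map_one] at h1
    exact zero_ne_one h1
  have hposT := Groth.Agent.H85.SegreRingFacts.segre_hpos 𝒜 ℬ 𝒯 ψ hT.1 hT.2 hposR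
  have h0T := Groth.Agent.H85.SegreRingFacts.segre_h0 𝒜 ℬ 𝒯 ψ hT.1 hT.2 h0R h0S
  haveI : Algebra.FiniteType k T :=
    Groth.Agent.H85.SegreRingFacts.segre_finiteType 𝒜 ℬ 𝒯 ψ hT.1 hT.2 hposR h0R h0S
  -- the two Matlis pairings
  obtain ⟨PR, hPR⟩ := exists_mpair_sub 𝒜 hposR h0R mR hmR 𝓔R eR heR 𝒞R r I hCR
  obtain ⟨PS, hPS⟩ := exists_mpair_sub ℬ hposS h0S mS hmS 𝓔S eS heS 𝒞S s J hCS
  -- vanishing
  have hvR := subsingleton_H_of_dim_lt 𝒜 hposR h0R mR hmR r hr I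
  have hvS := subsingleton_H_of_dim_lt ℬ hposS h0S mS hmS s hs J
  -- structures on the local cohomology modules
  letI : Module k ((selfRes 𝒜 I).H mR r) := Module.compHom _ (algebraMap k R)
  haveI : IsScalarTower k R ((selfRes 𝒜 I).H mR r) :=
    IsScalarTower.of_algebraMap_smul (fun _ _ => rfl)
  letI : Module k ((selfRes ℬ J).H mS s) := Module.compHom _ (algebraMap k S)
  haveI : IsScalarTower k S ((selfRes ℬ J).H mS s) :=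
    IsScalarTower.of_algebraMap_smul (fun _ _ => rfl)
  letI : Module k ((selfRes 𝒯 IT).H mT (r + s - 1)) := Module.compHom _ (algebraMap k T)
  haveI : IsScalarTower k T ((selfRes 𝒯 IT).H mT (r + s - 1)) :=
    IsScalarTower.of_algebraMap_smul (fun _ _ => rfl)
  letI : DirectSum.Decomposition ((selfRes 𝒜 I).Hgr mR r) := decH 𝒜 mR r I
  letI : DirectSum.Decomposition ((selfRes ℬ J).Hgr mS s) := decH ℬ mS s J
  letI : DirectSum.Decomposition ((selfRes 𝒯 IT).Hgr mT (r + s - 1)) := decH 𝒯 mT (r + s - 1) IT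
  -- top local cohomology of the Segre product
  obtain ⟨Φ, hΦ⟩ := topSegre k R 𝒜 S ℬ T 𝒯 ψ hT mR hmR mS hmS mT hmT R (selfGr 𝒜) (selfRes 𝒜 I)
    S (selfGr ℬ) (selfRes ℬ J) T (selfGr 𝒯) ψ.toLinearMap (isSegreMod_self 𝒜 ℬ 𝒯 hT)
    (selfRes 𝒯 IT) r s h2r h2s hvR hvS
  -- the Segre pairing
  obtain ⟨PT, hPT⟩ := exists_mpair_segre 𝒜 h0R ℬ h0S 𝒯 h0T ψ ((selfRes 𝒜 I).Hgr mR r) 𝒞R
    ((selfRes ℬ J).Hgr mS s) 𝒞S ((selfRes 𝒯 IT).Hgr mT (r + s - 1)) 𝒬 Φ hΦ φ hP PR hPR PS hPS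
  -- finiteness
  haveI : Module.Finite R CR := hCR.1
  haveI : Module.Finite S CS := hCS.1
  haveI : IsNoetherian T P := segre_isNoetherian 𝒜 ℬ 𝒯 ψ hT 𝒞R 𝒞S 𝒬 φ hP
  haveI : Module.Finite T P := inferInstance
  exact isStarCanonical_of_mpair_sub 𝒯 hposT h0T mT hmT 𝓔T eT heT 𝒬 (r + s - 1) IT PT hPT

end Segre

end Groth.Agent.H98.SegCanon
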