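import Groth.Agent.H98.Ver.CanonPair

set_option autoImplicit false
set_option linter.unusedSectionVars false
set_option linter.style.haveILetI false
universe u

/-!
# From a graded Matlis pairing to a *canonical module

The converse of `H98.Ver.exists_mpair`: if `P : H × C → R_0` is a graded Matlis pairing, `C` is
finitely generated with finite-dimensional pieces, and `E = *E(R/R_+)`, then there is a homogeneous
isomorphism `Hom_R(C, E) ≅ H`.
-/

namespace Groth.Agent.H98.SegCanon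

open DirectSum Groth.Agent.H98.GrStar Groth.Agent.H98.Canon Groth.Agent.H98.GrHt
  Groth.Agent.H98.Ver

section MPairLemmas

variable {R : Type u} [CommRing R] {𝒜 : ℤ → AddSubgroup R} [GradedRing 𝒜]
variable {H : Type u} [AddCommGroup H] [Module R H] {𝓗 : ℤ → AddSubgroup H}
variable {C : Type u} [AddCommGroup C] [Module R C] {𝒞 : ℤ → AddSubgroup C}
variable {P : H →+ C →+ R}

/-- a homogeneous `c ∈ C_{-i}` only sees the component of degree `i` -/
theorem mpair_apply_eq_decompose_left [DirectSum.Decomposition 𝓗] (hP : MPair 𝒜 𝓗 𝒞 P) (i : ℤ)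
    (c : C) (hc : c ∈ 𝒞 (-i)) (h : H) : P h c = P (DirectSum.decompose 𝓗 h i : H) c := by
  induction h using DirectSum.Decomposition.inductionOn 𝓗 with
  | zero => rw [DirectSum.decompose_zero, DirectSum.zero_apply, ZeroMemClass.coe_zero]
  | @homogeneous l h =>
    by_cases hl : l = i
    · subst hl
      rw [DirectSum.decompose_of_mem_same 𝓗 h.2]
    · rw [DirectSum.decompose_of_mem_ne 𝓗 h.2 hl, map_zero, AddMonoidHom.zero_apply]
      exact hP.deg l (-i) (fun h' => hl (by omega)) _ h.2 c hc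
  | add a b ha hb =>
    rw [map_add, AddMonoidHom.add_apply, ha, hb, DirectSum.decompose_add, DirectSum.add_apply,
      AddSubgroup.coe_add, map_add, AddMonoidHom.add_apply]

/-- `h` pairs to zero with everything iff it is zero -/
theorem mpair_eq_zero_of_forall_left [DirectSum.Decomposition 𝓗] (hP : MPair 𝒜 𝓗 𝒞 P) (h : H)
    (h0 : ∀ (j : ℤ) (c : C), c ∈ 𝒞 j → P h c = 0) : h = 0 := by
  apply eq_zero_of_decompose_eq_zero 𝓗
  intro i
  have hi : ((DirectSum.decompose 𝓗 h i : 𝓗 i) : H) ∈ 𝓗 (- -i) := by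
    rw [neg_neg]
    exact SetLike.coe_mem _
  apply hP.nondegH (-i) _ hi
  intro c hc
  rw [← mpair_apply_eq_decompose_left hP i c hc h]
  exact h0 _ c hc

variable [SetLike.GradedSMul 𝒜 𝓗] [SetLike.GradedSMul 𝒜 𝒞]

/-- **representability on the left**: every `R_0`-linear functional on `C_j` is pairing with an
element of `H_{-j}`, if `C_j` is finite-dimensional -/
theorem mpair_exists_repr_left (hP : MPair 𝒜 𝓗 𝒞 P) (h0 : IsField (GrLC.deg0 𝒜)) (j : ℤ)
    (hfin : letI : Field (GrLC.deg0 𝒜) := h0.toField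
      Module.Finite (GrLC.deg0 𝒜) (GrLC.comp 𝒜 𝒞 j))
    (lam : C →+ R) (hlam0 : ∀ c, lam c ∈ 𝒜 0) (hlamlin : ∀ a ∈ 𝒜 0, ∀ c, lam (a • c) = a * lam c) :
    ∃ h ∈ 𝓗 (-j), ∀ c ∈ 𝒞 j, P h c = lam c := by
  letI : Field (GrLC.deg0 𝒜) := h0.toField
  haveI := hfin
  let p : GrLC.comp 𝒜 𝓗 (-j) →ₗ[GrLC.deg0 𝒜] GrLC.comp 𝒜 𝒞 j →ₗ[GrLC.deg0 𝒜] GrLC.deg0 𝒜 :=
    LinearMap.mk₂ (GrLC.deg0 𝒜) (fun h c => ⟨P (h : H) (c : C), hP.val0 _ _⟩)
      (fun h₁ h₂ c => Subtype.ext (by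
        change P ((h₁ : H) + (h₂ : H)) (c : C) = P (h₁ : H) (c : C) + P (h₂ : H) (c : C)
        rw [map_add, AddMonoidHom.add_apply]))
      (fun a h c => Subtype.ext (by
        change P ((a : R) • (h : H)) (c : C) = (a : R) * P (h : H) (c : C)
        exact hP.lin0 _ a.2 _ _))
      (fun h c₁ c₂ => Subtype.ext (by
        change P (h : H) ((c₁ : C) + (c₂ : C)) = P (h : H) (c₁ : C) + P (h : H) (c₂ : C)
        rw [map_add]))
      (fun a h c => Subtype.ext (by
        change P (h : H) ((a : R) • (c : C)) = (a : R) * P (h : H) (c : C)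
        rw [← hP.bal]
        exact hP.lin0 _ a.2 _ _))
  have hp : ∀ (h : GrLC.comp 𝒜 𝓗 (-j)) (c : GrLC.comp 𝒜 𝒞 j),
      ((p h c : GrLC.deg0 𝒜) : R) = P (h : H) (c : C) := fun _ _ => rfl
  have hinj : Function.Injective p := by
    rw [injective_iff_map_eq_zero]
    intro h hh
    apply Subtype.ext
    apply hP.nondegH j _ h.2
    intro c hc
    have := congrArg (fun F => ((F ⟨c, hc⟩ : GrLC.deg0 𝒜) : R)) hh
    simpa [hp] using this
  have hinj' : Function.Injective p.flip := by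
    rw [injective_iff_map_eq_zero]
    intro c hc
    apply Subtype.ext
    apply hP.nondegC j _ c.2
    intro h hh
    have := congrArg (fun F => ((F ⟨h, hh⟩ : GrLC.deg0 𝒜) : R)) hc
    simpa [hp] using this
  haveI : p.IsPerfPair := LinearMap.IsPerfPair.of_injective' hinj hinj'
  let lamk : Module.Dual (GrLC.deg0 𝒜) (GrLC.comp 𝒜 𝒞 j) :=
    { toFun := fun c => ⟨lam (c : C), hlam0 _⟩
      map_add' := fun c₁ c₂ => Subtype.ext (by
        change lam ((c₁ : C) + (c₂ : C)) = lam (c₁ : C) + lam (c₂ : C)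
        rw [map_add])
      map_smul' := fun a c => Subtype.ext (by
        change lam ((a : R) • (c : C)) = (a : R) * lam (c : C)
        exact hlamlin _ a.2 _) }
  refine ⟨(p.toPerfPair.symm lamk : GrLC.comp 𝒜 𝓗 (-j)), (p.toPerfPair.symm lamk).2, ?_⟩
  intro c hc
  have := LinearMap.congr_fun (LinearMap.apply_symm_toPerfPair_self p lamk) ⟨c, hc⟩
  exact congrArg (fun z : GrLC.deg0 𝒜 => (z : R)) this

end MPairLemmas

section Main

variable {R : Type u} [CommRing R] [IsNoetherianRing R] (𝒜 : ℤ → AddSubgroup R) [GradedRing 𝒜]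
  (hpos : ∀ n : ℤ, n < 0 → 𝒜 n = ⊥) (h0 : IsField (GrLC.deg0 𝒜))
  {m : HomogeneousIdeal 𝒜} (hm : GrLC.IsStarLocal 𝒜 m)
  (hmsp : m.toIdeal = Ideal.span (⋃ n ∈ Set.Ioi (0 : ℤ), (𝒜 n : Set R)))
variable {E' : Type u} [AddCommGroup E'] [Module R E'] (𝓔 : ℤ → AddSubgroup E')
  [DirectSum.Decomposition 𝓔] [SetLike.GradedSMul 𝒜 𝓔]
  (e : (R ⧸ m.toIdeal) →ₗ[R] E') (he : GrLC.IsStarInjHull 𝒜 (GrLC.quotGr 𝒜 m) 𝓔 e)
variable {C : Type u} [AddCommGroup C] [Module R C] (𝒞 : ℤ → AddSubgroup C)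
  [DirectSum.Decomposition 𝒞] [SetLike.GradedSMul 𝒜 𝒞]
variable {H : Type u} [AddCommGroup H] [Module R H] (𝓗 : ℤ → AddSubgroup H)
  [DirectSum.Decomposition 𝓗] [SetLike.GradedSMul 𝒜 𝓗]

/-- a map into a module with perfect pairings whose degree-zero components vanish is zero -/
theorem eq_zero_of_gp0 (hPerf : IsPerf 𝒜 𝓔) (u : C →ₗ[R] E') (h : ∀ c, gp0 𝓔 (u c) = 0) :
    u = 0 := by
  apply LinearMap.ext
  intro c
  rw [LinearMap.zero_apply]
  apply eq_zero_of_decompose_eq_zero 𝓔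
  intro j
  have hj : ((DirectSum.decompose 𝓔 (u c) j : 𝓔 j) : E') ∈ 𝓔 (- -j) := by
    rw [neg_neg]
    exact SetLike.coe_mem _
  apply hPerf.nondeg (-j) _ hj
  intro r hr
  have h1 := decompose_smul_homog 𝒜 𝓔 hr (u c) j
  rw [neg_add_cancel, ← map_smul] at h1
  rw [← h1]
  exact h (r • c)

include hpos h0 hm hmsp he in
/-- **from a graded Matlis pairing to a *canonical module** -/
theorem exists_canon_of_mpair [Module.Finite R C] (P : H →+ C →+ R) (hP : MPair 𝒜 𝓗 𝒞 P)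
    (hfin : ∀ j : ℤ, letI : Field (GrLC.deg0 𝒜) := h0.toField
      Module.Finite (GrLC.deg0 𝒜) (GrLC.comp 𝒜 𝒞 j)) :
    ∃ Φ : (C →ₗ[R] E') ≃ₗ[R] H,
      GrLC.IsGrHom (fun d => (GrLC.homDeg 𝒜 𝒞 𝓔 d).toAddSubgroup) 𝓗 Φ.toLinearMap := by
  classical
  letI : Field (GrLC.deg0 𝒜) := h0.toField
  haveI hmax : m.toIdeal.IsMaximal := isMaximal_of_isStarLocal 𝒜 hpos hm
  have hpe := hpos_elt 𝒜 hpos
  have hPerf : IsPerf 𝒜 𝓔 := isPerf_hull 𝒜 hpe hmsp 𝓔 e he
  have hess := he.toIsStarEss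
  obtain ⟨co, hco0, hco, hcolin⟩ := exists_coord 𝒜 hpe hmsp 𝓔 e hess
  have he1 : e 1 ∈ 𝓔 0 := e_mem_zero 𝒜 hpe hmsp 𝓔 e hess 1
  have hgen_inj : ∀ a ∈ 𝒜 0, a • e 1 = 0 → a = 0 := fun a ha h =>
    hull_gen_inj 𝒜 hpe hmsp 𝓔 e hess a ha h
  -- existence for homogeneous `h`
  have hex_hom : ∀ (i : ℤ) (h : H), h ∈ 𝓗 i →
      ∃ u : C →ₗ[R] E', GrLC.IsGrHomDeg 𝒞 𝓔 u i ∧ ∀ c, gp0 𝓔 (u c) = P h c • e 1 := by
    intro i h hh
    let Λ : C →+ E' :=
      { toFun := fun c => P h c • e 1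
        map_zero' := by rw [map_zero, zero_smul]
        map_add' := fun a b => by rw [map_add, add_smul] }
    have hΛ0 : ∀ b, Λ b ∈ 𝓔 0 := by
      intro b
      have := SetLike.GradedSMul.smul_mem (A := 𝒜) (B := 𝓔) (hP.val0 h b) he1
      rwa [vadd_eq_add, add_zero] at this
    have hΛne : ∀ j : ℤ, j ≠ -i → ∀ b ∈ 𝒞 j, Λ b = 0 := by
      intro j hj b hb
      change P h b • e 1 = 0
      rw [hP.deg i j (fun h' => hj (by omega)) h hh b hb, zero_smul]
    have hΛlin : ∀ c ∈ 𝒜 0, ∀ b, Λ (c • b) = c • Λ b := by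
      intro c hc b
      change P h (c • b) • e 1 = c • (P h b • e 1)
      rw [← hP.bal, hP.lin0 c hc, mul_smul]
    obtain ⟨u, hu, huΛ⟩ := hPerf.exists_hom_deg 𝒞 i Λ hΛ0 hΛne hΛlin
    refine ⟨u, hu, fun c => ?_⟩
    have := huΛ c 1
    rwa [one_smul, one_smul] at this
  -- existence in general
  have hex : ∀ h : H, ∃ u : C →ₗ[R] E', ∀ c, gp0 𝓔 (u c) = P h c • e 1 := by
    intro h
    induction h using DirectSum.Decomposition.inductionOn 𝓗 with
    | zero => exact ⟨0, fun c => by rw [LinearMap.zero_apply, map_zero, map_zero,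
        AddMonoidHom.zero_apply, zero_smul]⟩
    | @homogeneous i h =>
      obtain ⟨u, -, hu⟩ := hex_hom i h h.2
      exact ⟨u, hu⟩
    | add a b ha hb =>
      obtain ⟨ua, hua⟩ := ha
      obtain ⟨ub, hub⟩ := hb
      exact ⟨ua + ub, fun c => by
        rw [LinearMap.add_apply, map_add, hua, hub, map_add, AddMonoidHom.add_apply, add_smul]⟩
  choose F hF using hex
  have huniq : ∀ (h : H) (u : C →ₗ[R] E'), (∀ c, gp0 𝓔 (u c) = P h c • e 1) → u = F h := by
    intro h u hu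
    have : u - F h = 0 := by
      apply eq_zero_of_gp0 𝒜 𝓔 hPerf
      intro c
      rw [LinearMap.sub_apply, map_sub, hu, hF, sub_self]
    exact sub_eq_zero.1 this
  let Ψ : H →ₗ[R] (C →ₗ[R] E') :=
    { toFun := F
      map_add' := fun a b => by
        symm
        apply huniq
        intro c
        rw [LinearMap.add_apply, map_add, hF, hF, map_add, AddMonoidHom.add_apply, add_smul]
      map_smul' := fun r h => by
        symm
        apply huniq
        intro c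
        rw [RingHom.id_apply, LinearMap.smul_apply, ← map_smul, hF, hP.bal] }
  have hΨ : ∀ h c, gp0 𝓔 (Ψ h c) = P h c • e 1 := fun h c => hF h c
  -- injectivity
  have hinj : Function.Injective Ψ := by
    rw [← LinearMap.ker_eq_bot, LinearMap.ker_eq_bot']
    intro h hh
    apply mpair_eq_zero_of_forall_left hP
    intro j c _
    apply hgen_inj _ (hP.val0 h c)
    rw [← hΨ, hh, LinearMap.zero_apply, map_zero]
  -- homogeneous elements go to homogeneous maps
  have hΨdeg : ∀ (i : ℤ) (h : H), h ∈ 𝓗 i → GrLC.IsGrHomDeg 𝒞 𝓔 (Ψ h) i := by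
    intro i h hh
    obtain ⟨u, hu, hu'⟩ := hex_hom i h hh
    have : u = Ψ h := huniq h u hu'
    rw [← this]
    exact hu
  -- surjectivity on homogeneous maps
  have hsurj_hom : ∀ (d : ℤ) (v : C →ₗ[R] E'), GrLC.IsGrHomDeg 𝒞 𝓔 v d →
      ∃ h ∈ 𝓗 d, Ψ h = v := by
    intro d v hv
    let lam : C →+ R := co.comp (v : C →+ E')
    have hlam : ∀ c, lam c = co (v c) := fun _ => rfl
    have hlam0 : ∀ c, lam c ∈ 𝒜 0 := fun c => hco0 _
    have hlamlin : ∀ a ∈ 𝒜 0, ∀ c, lam (a • c) = a * lam c := by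
      intro a ha c
      rw [hlam, hlam, map_smul, hcolin a ha]
    obtain ⟨h, hh, hhc⟩ := mpair_exists_repr_left hP h0 (-d) (hfin (-d)) lam hlam0 hlamlin
    rw [neg_neg] at hh
    refine ⟨h, hh, ?_⟩
    symm
    apply huniq
    intro c
    -- check on homogeneous `c`
    induction c using DirectSum.Decomposition.inductionOn 𝒞 with
    | zero => rw [map_zero, map_zero, map_zero, zero_smul]
    | @homogeneous j c =>
      by_cases hj : j = -d
      · subst hj
        rw [hhc c c.2, hlam, hco]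
      · have h1 : P h c = 0 := hP.deg d j (fun h' => hj (by omega)) h hh c c.2
        have h2 : gp0 𝓔 (v c) = 0 := gp0_of_mem_ne 𝓔 (fun h' => hj (by omega)) (hv j c c.2)
        rw [h1, h2, zero_smul]
    | add a b ha hb => rw [map_add, map_add, ha, hb, map_add, add_smul]
  have hsurj : Function.Surjective Ψ := by
    intro v
    obtain ⟨D, hD⟩ := Groth.Agent.H81.GrCanonUnique.exists_eq_sum_comp 𝒜 𝒞 𝓔 v
    have : ∀ d ∈ D, ∃ h, Ψ h = comp 𝒜 𝒞 𝓔 v d := by
      intro d _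
      obtain ⟨h, -, hh⟩ := hsurj_hom d (comp 𝒜 𝒞 𝓔 v d)
        (fun l x hx => comp_mem 𝒜 𝒞 𝓔 v d hx)
      exact ⟨h, hh⟩
    choose! g hg using this
    refine ⟨∑ d ∈ D, g d, ?_⟩
    rw [map_sum, hD]
    exact Finset.sum_congr rfl hg
  let Φ : (C →ₗ[R] E') ≃ₗ[R] H := (LinearEquiv.ofBijective Ψ ⟨hinj, hsurj⟩).symm
  have hΦΨ : ∀ h, Φ (Ψ h) = h := fun h =>
    (LinearEquiv.ofBijective Ψ ⟨hinj, hsurj⟩).symm_apply_apply h
  refine ⟨Φ, ?_⟩
  intro d v hv
  obtain ⟨h, hh, hhv⟩ := hsurj_hom d v hv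
  change Φ v ∈ 𝓗 d
  rw [← hhv, hΦΨ]
  exact hh

end Main

end Groth.Agent.H98.SegCanon
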