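import Mathlib

set_option autoImplicit false
universe u

/-!
# The tensor product of two pairings over a field

`tpair p₁ p₂ : X₁ ⊗ X₂ → Y₁ ⊗ Y₂ → k`, `(x₁ ⊗ x₂, y₁ ⊗ y₂) ↦ p₁ x₁ y₁ * p₂ x₂ y₂`;
it is left (right) nondegenerate as soon as both factors are.
-/

namespace Groth.Agent.H98.SegCanon

open scoped TensorProduct

variable {k : Type u} [Field k]
variable {X₁ X₂ Y₁ Y₂ : Type u} [AddCommGroup X₁] [Module k X₁] [AddCommGroup X₂] [Module k X₂]
  [AddCommGroup Y₁] [Module k Y₁] [AddCommGroup Y₂] [Module k Y₂]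

/-- the tensor product of two pairings -/
noncomputable def tpair (p₁ : X₁ →ₗ[k] Y₁ →ₗ[k] k) (p₂ : X₂ →ₗ[k] Y₂ →ₗ[k] k) :
    X₁ ⊗[k] X₂ →ₗ[k] Y₁ ⊗[k] Y₂ →ₗ[k] k :=
  (LinearMap.llcomp k (Y₁ ⊗[k] Y₂) (k ⊗[k] k) k (TensorProduct.lid k k).toLinearMap) ∘ₗ
    TensorProduct.map₂ p₁ p₂

@[simp] theorem tpair_tmul (p₁ : X₁ →ₗ[k] Y₁ →ₗ[k] k) (p₂ : X₂ →ₗ[k] Y₂ →ₗ[k] k)
    (x₁ : X₁) (x₂ : X₂) (y₁ : Y₁) (y₂ : Y₂) :
    tpair p₁ p₂ (x₁ ⊗ₜ[k] x₂) (y₁ ⊗ₜ[k] y₂) = p₁ x₁ y₁ * p₂ x₂ y₂ := by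
  simp [tpair]

/-- left nondegeneracy of the tensor product pairing -/
theorem tpair_injective (p₁ : X₁ →ₗ[k] Y₁ →ₗ[k] k) (p₂ : X₂ →ₗ[k] Y₂ →ₗ[k] k)
    (h₁ : Function.Injective p₁) (h₂ : Function.Injective p₂) :
    Function.Injective (tpair p₁ p₂) := by
  classical
  rw [← LinearMap.ker_eq_bot, LinearMap.ker_eq_bot']
  intro t ht
  let b := Module.Basis.ofVectorSpace k X₂
  obtain ⟨f, rfl⟩ := (TensorProduct.equivFinsuppOfBasisRight b).symm.surjective t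
  rw [TensorProduct.equivFinsuppOfBasisRight_symm_apply] at ht ⊢
  suffices hf : f = 0 by rw [hf, Finsupp.sum_zero_index]
  ext i
  rw [Finsupp.zero_apply]
  apply h₁
  rw [map_zero]
  apply LinearMap.ext
  intro y₁
  rw [LinearMap.zero_apply]
  -- the element `∑ p₁ (f j) y₁ • b j` of `X₂` pairs to zero with everything
  have key : f.sum (fun j x => p₁ x y₁ • b j) = 0 := by
    apply h₂
    rw [map_zero]
    apply LinearMap.ext
    intro y₂
    rw [LinearMap.zero_apply]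
    have h3 := LinearMap.congr_fun ht (y₁ ⊗ₜ[k] y₂)
    rw [LinearMap.zero_apply] at h3
    rw [Finsupp.sum, map_sum, LinearMap.sum_apply] at h3 ⊢
    rw [← h3]
    apply Finset.sum_congr rfl
    intro j _
    rw [tpair_tmul, map_smul, LinearMap.smul_apply, smul_eq_mul]
  -- linear independence of the basis
  have h4 := congrArg (fun z => b.repr z i) key
  simp only [Finsupp.sum, map_sum, map_smul, Module.Basis.repr_self, Finsupp.coe_finsetSum,
    Finsupp.coe_smul, Finset.sum_apply, Pi.smul_apply, smul_eq_mul, map_zero,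
    Finsupp.zero_apply] at h4
  rw [Finset.sum_eq_single i] at h4
  · simpa using h4
  · intro j _ hj
    rw [Finsupp.single_eq_of_ne (Ne.symm hj), mul_zero]
  · intro hi
    rw [Finsupp.notMem_support_iff.1 hi, map_zero, LinearMap.zero_apply, zero_mul]

/-- the flipped tensor pairing is the tensor pairing of the flipped pairings -/
theorem tpair_flip (p₁ : X₁ →ₗ[k] Y₁ →ₗ[k] k) (p₂ : X₂ →ₗ[k] Y₂ →ₗ[k] k) :
    (tpair p₁ p₂).flip = tpair p₁.flip p₂.flip := by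
  apply TensorProduct.ext'
  intro y₁ y₂
  apply TensorProduct.ext'
  intro x₁ x₂
  rw [LinearMap.flip_apply, tpair_tmul, tpair_tmul, LinearMap.flip_apply, LinearMap.flip_apply]

/-- right nondegeneracy of the tensor product pairing -/
theorem tpair_flip_injective (p₁ : X₁ →ₗ[k] Y₁ →ₗ[k] k) (p₂ : X₂ →ₗ[k] Y₂ →ₗ[k] k)
    (h₁ : Function.Injective p₁.flip) (h₂ : Function.Injective p₂.flip) :
    Function.Injective (tpair p₁ p₂).flip := by
  rw [tpair_flip]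
  exact tpair_injective _ _ h₁ h₂

end Groth.Agent.H98.SegCanon
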