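import Groth.Agent.H98.SegCanon.OfMPair
import Groth.Agent.H98.SegCanon.TensorPairing
import Groth.Agent.H98.Canon.ToSelf
import Groth.Prelude.Def_GrSeg

set_option autoImplicit false
set_option linter.unusedSectionVars false
set_option linter.style.haveILetI false
universe u

/-!
# The Segre product of two graded Matlis pairings

If `H_T = H_R # H_S` and `P = C_R # C_S` (Segre modules over `T = R # S`) and `H_R × C_R → k`,
`H_S × C_S → k` are graded Matlis pairings, then so is the tensor product pairing `H_T × P → k`.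
-/

namespace Groth.Agent.H98.SegCanon

open scoped TensorProduct
open DirectSum Groth.Agent.H98.GrStar Groth.Agent.H98.Canon Groth.Agent.H98.Ver

section KPair

variable {k : Type u} [Field k] {R : Type u} [CommRing R] [Algebra k R]
  (𝒜 : ℤ → Submodule k R) [GradedAlgebra 𝒜] (h0R : 𝒜 0 = Submodule.span k {(1 : R)})
variable {H : Type u} [AddCommGroup H] [Module R H] [Module k H] [IsScalarTower k R H]
  (𝓗 : ℤ → AddSubgroup H)
variable {C : Type u} [AddCommGroup C] [Module R C] [Module k C] [IsScalarTower k R C]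
  (𝒞 : ℤ → AddSubgroup C)
variable (P : H →+ C →+ R) (hP : MPair (selfGr 𝒜) 𝓗 𝒞 P)

include h0R in
theorem exists_eq_algebraMap (x : R) (hx : x ∈ selfGr 𝒜 0) : ∃ c : k, x = algebraMap k R c := by
  have : x ∈ 𝒜 0 := hx
  rw [h0R, Submodule.mem_span_singleton] at this
  obtain ⟨c, rfl⟩ := this
  exact ⟨c, (Algebra.algebraMap_eq_smul_one c).symm⟩

include h0R hP in
/-- the `k`-valued bilinear form underlying a graded Matlis pairing over a graded `k`-algebra
with `R_0 = k` -/
theorem exists_kpair [Nontrivial R] :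
    ∃ p : H →ₗ[k] C →ₗ[k] k, ∀ h c, P h c = algebraMap k R (p h c) := by
  obtain ⟨ρ, hρ⟩ := (Algebra.linearMap k R).exists_leftInverse_of_injective
    (LinearMap.ker_eq_bot.2 (algebraMap k R).injective)
  have hρ' : ∀ c : k, ρ (algebraMap k R c) = c := fun c => LinearMap.congr_fun hρ c
  have hval : ∀ h c, P h c = algebraMap k R (ρ (P h c)) := by
    intro h c
    obtain ⟨l, hl⟩ := exists_eq_algebraMap 𝒜 h0R _ (hP.val0 h c)
    rw [hl, hρ']
  have hmem : ∀ l : k, algebraMap k R l ∈ selfGr 𝒜 0 := by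
    intro l
    change algebraMap k R l ∈ 𝒜 0
    rw [Algebra.algebraMap_eq_smul_one]
    exact Submodule.smul_mem _ _ (SetLike.GradedOne.one_mem (A := 𝒜))
  have hsmulH : ∀ (l : k) h c, P (l • h) c = algebraMap k R l * P h c := by
    intro l h c
    rw [← algebraMap_smul R l h]
    exact hP.lin0 _ (hmem l) h c
  have hsmulC : ∀ (l : k) h c, P h (l • c) = algebraMap k R l * P h c := by
    intro l h c
    rw [← algebraMap_smul R l c, ← hP.bal]
    exact hP.lin0 _ (hmem l) h c
  refine ⟨LinearMap.mk₂ k (fun h c => ρ (P h c)) ?_ ?_ ?_ ?_, hval⟩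
  · intro h₁ h₂ c
    rw [map_add, AddMonoidHom.add_apply, map_add]
  · intro l h c
    rw [hsmulH, ← Algebra.smul_def, map_smul]
  · intro h c₁ c₂
    rw [map_add, map_add]
  · intro l h c
    rw [hsmulC, ← Algebra.smul_def, map_smul]

end KPair

section ActPair

variable {k : Type u} [Field k] {R S : Type u} [CommRing R] [CommRing S] [Algebra k R]
  [Algebra k S]
variable {HR : Type u} [AddCommGroup HR] [Module R HR] [Module k HR] [IsScalarTower k R HR]
  {CR : Type u} [AddCommGroup CR] [Module R CR] [Module k CR] [IsScalarTower k R CR]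
  {HS : Type u} [AddCommGroup HS] [Module S HS] [Module k HS] [IsScalarTower k S HS]
  {CS : Type u} [AddCommGroup CS] [Module S CS] [Module k CS] [IsScalarTower k S CS]
  (pR : HR →ₗ[k] CR →ₗ[k] k) (pS : HS →ₗ[k] CS →ₗ[k] k)

/-- the tensor pairing is balanced for the action of `R ⊗ S` -/
theorem tpair_act (hbR : ∀ (a : R) h c, pR (a • h) c = pR h (a • c))
    (hbS : ∀ (b : S) h c, pS (b • h) c = pS h (b • c))
    (z : R ⊗[k] S) (x : HR ⊗[k] HS) (y : CR ⊗[k] CS) :
    tpair pR pS (GrSeg.act k R S HR HS z x) y = tpair pR pS x (GrSeg.act k R S CR CS z y) := by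
  induction z using TensorProduct.induction_on with
  | zero => simp
  | add z z' hz hz' =>
    rw [map_add, LinearMap.add_apply, map_add, LinearMap.add_apply, hz, hz', map_add,
      LinearMap.add_apply, map_add]
  | tmul a b =>
    induction x using TensorProduct.induction_on with
    | zero => simp
    | add x x' hx hx' =>
      rw [map_add, map_add, LinearMap.add_apply, hx, hx', map_add, LinearMap.add_apply]
    | tmul x₁ x₂ =>
      induction y using TensorProduct.induction_on with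
      | zero => simp
      | add y y' hy hy' => rw [map_add, map_add, map_add, hy, hy']
      | tmul y₁ y₂ =>
        rw [GrSeg.act_tmul, GrSeg.act_tmul, tpair_tmul, tpair_tmul, hbR, hbS]

end ActPair

section Segre

variable {k : Type u} [Field k] {R S T : Type u} [CommRing R] [CommRing S] [CommRing T]
  [Algebra k R] [Algebra k S] [Algebra k T] [Nontrivial R] [Nontrivial S]
  (𝒜 : ℤ → Submodule k R) [GradedAlgebra 𝒜] (h0R : 𝒜 0 = Submodule.span k {(1 : R)})
  (ℬ : ℤ → Submodule k S) [GradedAlgebra ℬ] (h0S : ℬ 0 = Submodule.span k {(1 : S)})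
  (𝒯 : ℤ → Submodule k T) [GradedAlgebra 𝒯] (h0T : 𝒯 0 = Submodule.span k {(1 : T)})
  (ψ : T →ₐ[k] R ⊗[k] S)
variable {HR : Type u} [AddCommGroup HR] [Module R HR] [Module k HR] [IsScalarTower k R HR]
  (𝓗R : ℤ → AddSubgroup HR) [DirectSum.Decomposition 𝓗R]
  {CR : Type u} [AddCommGroup CR] [Module R CR] [Module k CR] [IsScalarTower k R CR]
  (𝒞R : ℤ → AddSubgroup CR) [DirectSum.Decomposition 𝒞R]
  {HS : Type u} [AddCommGroup HS] [Module S HS] [Module k HS] [IsScalarTower k S HS]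
  (𝓗S : ℤ → AddSubgroup HS) [DirectSum.Decomposition 𝓗S]
  {CS : Type u} [AddCommGroup CS] [Module S CS] [Module k CS] [IsScalarTower k S CS]
  (𝒞S : ℤ → AddSubgroup CS) [DirectSum.Decomposition 𝒞S]
  {HT : Type u} [AddCommGroup HT] [Module T HT] [Module k HT] [IsScalarTower k T HT]
  (𝓗T : ℤ → AddSubgroup HT) [DirectSum.Decomposition 𝓗T]
  {P : Type u} [AddCommGroup P] [Module T P] [Module k P] [IsScalarTower k T P]
  (𝒬 : ℤ → AddSubgroup P) [DirectSum.Decomposition 𝒬]
  (Φ : HT →ₗ[k] HR ⊗[k] HS) (hΦ : GrSeg.IsSegreMod ψ 𝓗R 𝓗S 𝓗T Φ)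
  (φ : P →ₗ[k] CR ⊗[k] CS) (hφ : GrSeg.IsSegreMod ψ 𝒞R 𝒞S 𝒬 φ)
  (PR : HR →+ CR →+ R) (hPR : MPair (selfGr 𝒜) 𝓗R 𝒞R PR)
  (PS : HS →+ CS →+ S) (hPS : MPair (selfGr ℬ) 𝓗S 𝒞S PS)

include h0R h0S h0T hΦ hφ hPR hPS in
/-- **the Segre product of two graded Matlis pairings is a graded Matlis pairing** -/
theorem exists_mpair_segre : ∃ PT : HT →+ P →+ T, MPair (selfGr 𝒯) 𝓗T 𝒬 PT := by
  classical
  obtain ⟨pR, hpR⟩ := exists_kpair 𝒜 h0R 𝓗R 𝒞R PR hPR
  obtain ⟨pS, hpS⟩ := exists_kpair ℬ h0S 𝓗S 𝒞S PS hPS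
  have injR : Function.Injective (algebraMap k R) := (algebraMap k R).injective
  have injS : Function.Injective (algebraMap k S) := (algebraMap k S).injective
  -- properties of the `k`-valued pairings
  have hbR : ∀ (a : R) h c, pR (a • h) c = pR h (a • c) := by
    intro a h c
    apply injR
    rw [← hpR, ← hpR, hPR.bal]
  have hbS : ∀ (b : S) h c, pS (b • h) c = pS h (b • c) := by
    intro b h c
    apply injS
    rw [← hpS, ← hpS, hPS.bal]
  have hdR : ∀ i j : ℤ, i + j ≠ 0 → ∀ h ∈ 𝓗R i, ∀ c ∈ 𝒞R j, pR h c = 0 := by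
    intro i j hij h hh c hc
    apply injR
    rw [← hpR, hPR.deg i j hij h hh c hc, map_zero]
  have hdS : ∀ i j : ℤ, i + j ≠ 0 → ∀ h ∈ 𝓗S i, ∀ c ∈ 𝒞S j, pS h c = 0 := by
    intro i j hij h hh c hc
    apply injS
    rw [← hpS, hPS.deg i j hij h hh c hc, map_zero]
  have hiR : Function.Injective pR := by
    rw [← LinearMap.ker_eq_bot, LinearMap.ker_eq_bot']
    intro h hh
    apply mpair_eq_zero_of_forall_left hPR
    intro j c _
    rw [hpR, hh, LinearMap.zero_apply, map_zero]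
  have hiS : Function.Injective pS := by
    rw [← LinearMap.ker_eq_bot, LinearMap.ker_eq_bot']
    intro h hh
    apply mpair_eq_zero_of_forall_left hPS
    intro j c _
    rw [hpS, hh, LinearMap.zero_apply, map_zero]
  have hiR' : Function.Injective pR.flip := by
    rw [← LinearMap.ker_eq_bot, LinearMap.ker_eq_bot']
    intro c hc
    apply hPR.eq_zero_of_forall
    intro i h _
    have := LinearMap.congr_fun hc h
    rw [LinearMap.flip_apply, LinearMap.zero_apply] at this
    rw [hpR, this, map_zero]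
  have hiS' : Function.Injective pS.flip := by
    rw [← LinearMap.ker_eq_bot, LinearMap.ker_eq_bot']
    intro c hc
    apply hPS.eq_zero_of_forall
    intro i h _
    have := LinearMap.congr_fun hc h
    rw [LinearMap.flip_apply, LinearMap.zero_apply] at this
    rw [hpS, this, map_zero]
  let B := tpair pR pS
  -- degree considerations
  have hB_hom : ∀ (a a' l l' : ℤ) (x₁ : HR) (x₂ : HS) (c₁ : CR) (c₂ : CS), x₁ ∈ 𝓗R a →
      x₂ ∈ 𝓗S a' → c₁ ∈ 𝒞R l → c₂ ∈ 𝒞S l' → (a + l ≠ 0 ∨ a' + l' ≠ 0) →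
      B (x₁ ⊗ₜ[k] x₂) (c₁ ⊗ₜ[k] c₂) = 0 := by
    intro a a' l l' x₁ x₂ c₁ c₂ h1 h2 h3 h4 hne
    change tpair pR pS _ _ = 0
    rw [tpair_tmul]
    rcases hne with hne | hne
    · rw [hdR a l hne x₁ h1 c₁ h3, zero_mul]
    · rw [hdS a' l' hne x₂ h2 c₂ h4, mul_zero]
  have hB_left : ∀ (i l l' : ℤ) (x : HR ⊗[k] HS) (c₁ : CR) (c₂ : CS),
      x ∈ GrSeg.segrePiece k 𝓗R 𝓗S i → c₁ ∈ 𝒞R l → c₂ ∈ 𝒞S l' → (i + l ≠ 0 ∨ i + l' ≠ 0) →
      B x (c₁ ⊗ₜ[k] c₂) = 0 := by
    intro i l l' x c₁ c₂ hx h3 h4 hne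
    induction hx using Submodule.span_induction with
    | mem x hx =>
      obtain ⟨x₁, h1, x₂, h2, rfl⟩ := hx
      exact hB_hom i i l l' x₁ x₂ c₁ c₂ h1 h2 h3 h4 hne
    | zero => rw [map_zero, LinearMap.zero_apply]
    | add x y _ _ hx hy => rw [map_add, LinearMap.add_apply, hx, hy, add_zero]
    | smul c x _ hx => rw [map_smul, LinearMap.smul_apply, hx, smul_zero]
  have hB_right : ∀ (j a a' : ℤ) (y : CR ⊗[k] CS) (x₁ : HR) (x₂ : HS),
      y ∈ GrSeg.segrePiece k 𝒞R 𝒞S j → x₁ ∈ 𝓗R a → x₂ ∈ 𝓗S a' → (a + j ≠ 0 ∨ a' + j ≠ 0) →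
      B (x₁ ⊗ₜ[k] x₂) y = 0 := by
    intro j a a' y x₁ x₂ hy h1 h2 hne
    induction hy using Submodule.span_induction with
    | mem y hy =>
      obtain ⟨c₁, h3, c₂, h4, rfl⟩ := hy
      exact hB_hom a a' j j x₁ x₂ c₁ c₂ h1 h2 h3 h4 hne
    | zero => rw [map_zero]
    | add x y _ _ hx hy => rw [map_add, hx, hy, add_zero]
    | smul c x _ hx => rw [map_smul, hx, smul_zero]
  have hB_deg : ∀ (i j : ℤ), i + j ≠ 0 → ∀ (x : HR ⊗[k] HS) (y : CR ⊗[k] CS),
      x ∈ GrSeg.segrePiece k 𝓗R 𝓗S i → y ∈ GrSeg.segrePiece k 𝒞R 𝒞S j → B x y = 0 := by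
    intro i j hij x y hx hy
    induction hy using Submodule.span_induction with
    | mem y hy =>
      obtain ⟨c₁, h3, c₂, h4, rfl⟩ := hy
      exact hB_left i j j x c₁ c₂ hx h3 h4 (Or.inl hij)
    | zero => rw [map_zero]
    | add x y _ _ hx hy => rw [map_add, hx, hy, add_zero]
    | smul c x _ hx => rw [map_smul, hx, smul_zero]
  -- images of pieces
  have hΦmem : ∀ (i : ℤ) (h : HT), h ∈ 𝓗T i → Φ h ∈ GrSeg.segrePiece k 𝓗R 𝓗S i := by
    intro i h hh
    have : Φ h ∈ Φ '' (𝓗T i : Set HT) := ⟨h, hh, rfl⟩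
    rw [hΦ.image_piece i] at this
    exact this
  have hφmem : ∀ (j : ℤ) (p : P), p ∈ 𝒬 j → φ p ∈ GrSeg.segrePiece k 𝒞R 𝒞S j := by
    intro j p hp
    have : φ p ∈ φ '' (𝒬 j : Set P) := ⟨p, hp, rfl⟩
    rw [hφ.image_piece j] at this
    exact this
  have hΦsurj : ∀ (i : ℤ) (x : HR ⊗[k] HS), x ∈ GrSeg.segrePiece k 𝓗R 𝓗S i →
      ∃ h ∈ 𝓗T i, Φ h = x := by
    intro i x hx
    have : x ∈ Φ '' (𝓗T i : Set HT) := by
      rw [hΦ.image_piece i]
      exact hx
    obtain ⟨h, hh, rfl⟩ := this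
    exact ⟨h, hh, rfl⟩
  have hφsurj : ∀ (j : ℤ) (y : CR ⊗[k] CS), y ∈ GrSeg.segrePiece k 𝒞R 𝒞S j →
      ∃ p ∈ 𝒬 j, φ p = y := by
    intro j y hy
    have : y ∈ φ '' (𝒬 j : Set P) := by
      rw [hφ.image_piece j]
      exact hy
    obtain ⟨p, hp, rfl⟩ := this
    exact ⟨p, hp, rfl⟩
  -- the pairing
  let pT : HT →ₗ[k] P →ₗ[k] k := B.compl₁₂ Φ φ
  have hpT : ∀ h p, pT h p = B (Φ h) (φ p) := fun _ _ => rfl
  let PT : HT →+ P →+ T :=
    AddMonoidHom.mk' (fun h => AddMonoidHom.mk' (fun p => algebraMap k T (pT h p))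
      (fun p p' => by rw [map_add, map_add]))
      (fun h h' => by
        apply AddMonoidHom.ext
        intro p
        change algebraMap k T (pT (h + h') p) = algebraMap k T (pT h p) + algebraMap k T (pT h' p)
        rw [map_add, LinearMap.add_apply, map_add])
  have hPT : ∀ h p, PT h p = algebraMap k T (B (Φ h) (φ p)) := fun _ _ => rfl
  have injT : Function.Injective (algebraMap k T) := by
    haveI : Nontrivial T := by
      refine ⟨⟨0, 1, fun h => ?_⟩⟩
      have h1 : ψ 0 = ψ 1 := congrArg ψ h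
      rw [map_zero, map_one] at h1
      exact zero_ne_one h1
    exact (algebraMap k T).injective
  refine ⟨PT, ?_, ?_, ?_, ?_, ?_, ?_⟩
  · intro h p
    rw [hPT]
    change algebraMap k T _ ∈ 𝒯 0
    rw [Algebra.algebraMap_eq_smul_one]
    exact Submodule.smul_mem _ _ (SetLike.GradedOne.one_mem (A := 𝒯))
  · intro t h p
    rw [hPT, hPT, hΦ.map_smul, hφ.map_smul]
    congr 1
    exact tpair_act pR pS hbR hbS (ψ t) (Φ h) (φ p)
  · intro a ha h p
    obtain ⟨l, rfl⟩ := exists_eq_algebraMap 𝒯 h0T a ha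
    rw [hPT, hPT, algebraMap_smul, map_smul Φ, map_smul B, LinearMap.smul_apply, smul_eq_mul,
      map_mul]
  · intro i j hij h hh p hp
    rw [hPT, hB_deg i j hij _ _ (hΦmem i h hh) (hφmem j p hp), map_zero]
  · -- nondegeneracy in `H_T`
    intro j h hh hall
    apply hΦ.injective
    rw [map_zero]
    apply tpair_injective pR pS hiR hiS
    rw [map_zero]
    apply TensorProduct.ext'
    intro c₁ c₂
    rw [LinearMap.zero_apply]
    change B (Φ h) (c₁ ⊗ₜ[k] c₂) = 0
    induction c₁ using DirectSum.Decomposition.inductionOn 𝒞R with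
    | zero => rw [TensorProduct.zero_tmul, map_zero]
    | add a b ha hb => rw [TensorProduct.add_tmul, map_add, ha, hb, add_zero]
    | @homogeneous l c₁ =>
      induction c₂ using DirectSum.Decomposition.inductionOn 𝒞S with
      | zero => rw [TensorProduct.tmul_zero, map_zero]
      | add a b ha hb => rw [TensorProduct.tmul_add, map_add, ha, hb, add_zero]
      | @homogeneous l' c₂ =>
        by_cases hl : -j + l ≠ 0 ∨ -j + l' ≠ 0
        · exact hB_left (-j) l l' _ c₁ c₂ (hΦmem _ h hh) c₁.2 c₂.2 hl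
        · rw [not_or, not_not, not_not] at hl
          have e1 : l = j := by omega
          have e2 : l' = j := by omega
          have hy : (c₁ : CR) ⊗ₜ[k] (c₂ : CS) ∈ GrSeg.segrePiece k 𝒞R 𝒞S j :=
            Submodule.subset_span ⟨c₁, e1 ▸ c₁.2, c₂, e2 ▸ c₂.2, rfl⟩
          obtain ⟨p, hp, hpy⟩ := hφsurj j _ hy
          rw [← hpy]
          apply injT
          rw [map_zero, ← hPT]
          exact hall p hp
  · -- nondegeneracy in `P`
    intro j p hp hall
    apply hφ.injective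
    rw [map_zero]
    apply tpair_flip_injective pR pS hiR' hiS'
    rw [map_zero]
    apply TensorProduct.ext'
    intro x₁ x₂
    rw [LinearMap.zero_apply, LinearMap.flip_apply]
    change B (x₁ ⊗ₜ[k] x₂) (φ p) = 0
    induction x₁ using DirectSum.Decomposition.inductionOn 𝓗R with
    | zero => rw [TensorProduct.zero_tmul, map_zero, LinearMap.zero_apply]
    | add a b ha hb =>
      rw [TensorProduct.add_tmul, map_add, LinearMap.add_apply, ha, hb, add_zero]
    | @homogeneous a x₁ =>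
      induction x₂ using DirectSum.Decomposition.inductionOn 𝓗S with
      | zero => rw [TensorProduct.tmul_zero, map_zero, LinearMap.zero_apply]
      | add a b ha hb =>
        rw [TensorProduct.tmul_add, map_add, LinearMap.add_apply, ha, hb, add_zero]
      | @homogeneous a' x₂ =>
        by_cases hl : a + j ≠ 0 ∨ a' + j ≠ 0
        · exact hB_right j a a' _ x₁ x₂ (hφmem j p hp) x₁.2 x₂.2 hl
        · rw [not_or, not_not, not_not] at hl
          have e1 : a = -j := by omega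
          have e2 : a' = -j := by omega
          have hx : (x₁ : HR) ⊗ₜ[k] (x₂ : HS) ∈ GrSeg.segrePiece k 𝓗R 𝓗S (-j) :=
            Submodule.subset_span ⟨x₁, e1 ▸ x₁.2, x₂, e2 ▸ x₂.2, rfl⟩
          obtain ⟨h, hh, hhx⟩ := hΦsurj (-j) _ hx
          rw [← hhx]
          apply injT
          rw [map_zero, ← hPT]
          exact hall h hh

end Segre

end Groth.Agent.H98.SegCanon
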